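import Groth.Prelude.Def_FinCov
import Groth.Agent.TMul.AmpleBasis
import Groth.Agent.QC.Sections

/-!
# The quasi-coherent algebra `O_X ⊕ L` of a pairing `L ⊗ L → O_X`
-/

set_option autoImplicit false
set_option backward.isDefEq.respectTransparency false
set_option backward.isDefEq.respectTransparency.types false
set_option linter.style.haveILetI false

universe u

open CategoryTheory CategoryTheory.Limits AlgebraicGeometry TopologicalSpace Opposite
open Groth.Agent.QC (res resO res_res res_smul resO_resO)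
open TMul

noncomputable section

namespace Groth.Agent.DblAlgLib

variable {X : Scheme.{u}} {L : X.Modules} (m : CohB1.tensorMod L L ⟶ Coh.structureModule X)

/-- The pairing on sections. -/
def pair (U : X.Opens) (l l' : Γ(L, U)) : Γ(X, U) := m.app U (tm l l')

theorem pair_add (U : X.Opens) (l l' l'' : Γ(L, U)) : pair m U (l + l') l'' = pair m U l l'' + pair m U l' l'' := by
  rw [pair, tm_add]; exact map_add _ _ _

theorem add_pair (U : X.Opens) (l l' l'' : Γ(L, U)) : pair m U l (l' + l'') = pair m U l l' + pair m U l l'' := by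
  rw [pair, add_tm]; exact map_add _ _ _

theorem smul_pair (U : X.Opens) (r : Γ(X, U)) (l l' : Γ(L, U)) : pair m U (r • l) l' = r * pair m U l l' := by
  have h : tm (r • l) l' = r • tm l l' := smul_tm r l l'
  rw [pair, h]
  exact Scheme.Modules.Hom.app_smul m r _

theorem pair_smul (U : X.Opens) (r : Γ(X, U)) (l l' : Γ(L, U)) : pair m U l (r • l') = r * pair m U l l' := by
  have h : tm l (r • l') = r • tm l l' := tm_smul r l l'
  rw [pair, h]
  exact Scheme.Modules.Hom.app_smul m r _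

theorem res_pair {V U : X.Opens} (h : V ≤ U) (l l' : Γ(L, U)) :
    resO X h (pair m U l l') = pair m V (res L h l) (res L h l') := by
  rw [pair, pair, ← res_tm]
  exact QC.app_res m h _

variable (hL : PicF.IsInvertible L)

include hL in
theorem pair_comm (U : X.Opens) (l l' : Γ(L, U)) : pair m U l l' = pair m U l' l := by
  refine QC.section_eq_of_locally (M := Coh.structureModule X) fun x hx => ?_
  obtain ⟨V, e, hxV, he⟩ := exists_isGen hL x
  refine ⟨U ⊓ V, inf_le_left, ⟨hx, hxV⟩, ?_⟩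
  change resO X _ (pair m U l l') = resO X _ (pair m U l' l)
  rw [res_pair, res_pair]
  obtain ⟨c, hc⟩ := (he (U ⊓ V) inf_le_right).2 (res L inf_le_left l)
  obtain ⟨c', hc'⟩ := (he (U ⊓ V) inf_le_right).2 (res L inf_le_left l')
  rw [← hc, ← hc']
  simp only [smul_pair, pair_smul]
  ring

include hL in
theorem pair_smul_swap (U : X.Opens) (l l' l'' : Γ(L, U)) :
    pair m U l l' • l'' = pair m U l' l'' • l := by
  refine QC.section_eq_of_locally (M := L) fun x hx => ?_
  obtain ⟨V, e, hxV, he⟩ := exists_isGen hL x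
  refine ⟨U ⊓ V, inf_le_left, ⟨hx, hxV⟩, ?_⟩
  rw [res_smul, res_smul, res_pair, res_pair]
  obtain ⟨c, hc⟩ := (he (U ⊓ V) inf_le_right).2 (res L inf_le_left l)
  obtain ⟨c', hc'⟩ := (he (U ⊓ V) inf_le_right).2 (res L inf_le_left l')
  obtain ⟨c'', hc''⟩ := (he (U ⊓ V) inf_le_right).2 (res L inf_le_left l'')
  rw [← hc, ← hc', ← hc'']
  simp only [smul_pair, pair_smul, smul_smul]
  congr 1
  ring

/-- The ring `O(U) ⊕ L(U)`. -/
@[ext]
structure Dbl (m : CohB1.tensorMod L L ⟶ Coh.structureModule X) (hL : PicF.IsInvertible L) (U : X.Opens) :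
    Type u where
  s : Γ(X, U)
  l : Γ(L, U)

variable {m hL}
variable {U : X.Opens}

instance : Zero (Dbl m hL U) := ⟨⟨0, 0⟩⟩
instance : One (Dbl m hL U) := ⟨⟨1, 0⟩⟩
instance : Add (Dbl m hL U) := ⟨fun a b => ⟨a.s + b.s, a.l + b.l⟩⟩
instance : Neg (Dbl m hL U) := ⟨fun a => ⟨-a.s, -a.l⟩⟩
instance : Mul (Dbl m hL U) := ⟨fun a b => ⟨a.s * b.s + pair m U a.l b.l, a.s • b.l + b.s • a.l⟩⟩

@[simp] theorem zero_s : (0 : Dbl m hL U).s = 0 := rfl
@[simp] theorem zero_l : (0 : Dbl m hL U).l = 0 := rfl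
@[simp] theorem one_s : (1 : Dbl m hL U).s = 1 := rfl
@[simp] theorem one_l : (1 : Dbl m hL U).l = 0 := rfl
@[simp] theorem add_s (a b : Dbl m hL U) : (a + b).s = a.s + b.s := rfl
@[simp] theorem add_l (a b : Dbl m hL U) : (a + b).l = a.l + b.l := rfl
@[simp] theorem neg_s (a : Dbl m hL U) : (-a).s = -a.s := rfl
@[simp] theorem neg_l (a : Dbl m hL U) : (-a).l = -a.l := rfl
@[simp] theorem mul_s (a b : Dbl m hL U) : (a * b).s = a.s * b.s + pair m U a.l b.l := rfl
@[simp] theorem mul_l (a b : Dbl m hL U) : (a * b).l = a.s • b.l + b.s • a.l := rfl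

theorem pair_zero (V : X.Opens) (l : Γ(L, V)) : pair m V l 0 = 0 := by
  simpa using pair_smul m V 0 l 0

theorem zero_pair (V : X.Opens) (l : Γ(L, V)) : pair m V 0 l = 0 := by
  simpa using smul_pair m V 0 0 l

instance : CommRing (Dbl m hL U) where
  add_assoc a b c := Dbl.ext (add_assoc _ _ _) (add_assoc _ _ _)
  zero_add a := Dbl.ext (zero_add _) (zero_add _)
  add_zero a := Dbl.ext (add_zero _) (add_zero _)
  add_comm a b := Dbl.ext (add_comm _ _) (add_comm _ _)
  neg_add_cancel a := Dbl.ext (neg_add_cancel _) (neg_add_cancel _)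
  nsmul := nsmulRec
  zsmul := zsmulRec
  left_distrib a b c := Dbl.ext (by simp only [mul_s, add_s, add_l, add_pair]; ring)
    (by simp only [mul_l, add_s, add_l, smul_add, add_smul]; abel)
  right_distrib a b c := Dbl.ext (by simp only [mul_s, add_s, add_l, pair_add]; ring)
    (by simp only [mul_l, add_s, add_l, smul_add, add_smul]; abel)
  zero_mul a := Dbl.ext (by simp [zero_pair]) (by simp)
  mul_zero a := Dbl.ext (by simp [pair_zero]) (by simp)
  one_mul a := Dbl.ext (by simp [zero_pair]) (by simp)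
  mul_one a := Dbl.ext (by simp [pair_zero]) (by simp)
  mul_comm a b := Dbl.ext (by rw [mul_s, mul_s, pair_comm m hL U a.l b.l]; ring)
    (by rw [mul_l, mul_l, add_comm])
  mul_assoc a b c := Dbl.ext
    (by simp only [mul_s, mul_l, pair_add, add_pair, smul_pair, pair_smul]; ring)
    (by
      simp only [mul_s, mul_l, add_smul, smul_add, smul_smul]
      rw [pair_smul_swap m hL U a.l b.l c.l, _root_.mul_comm c.s a.s, _root_.mul_comm c.s b.s]
      abel)

variable (m hL)

/-- Restriction. -/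
def resD {V U : X.Opens} (h : V ≤ U) : Dbl m hL U →+* Dbl m hL V where
  toFun a := ⟨resO X h a.s, res L h a.l⟩
  map_one' := Dbl.ext (map_one _) (map_zero _)
  map_zero' := Dbl.ext (map_zero _) (map_zero _)
  map_add' a b := Dbl.ext (map_add _ _ _) (map_add _ _ _)
  map_mul' a b := Dbl.ext (by simp only [mul_s, map_add, map_mul, res_pair])
    (by simp only [mul_l, map_add, res_smul])

/-- The presheaf of rings `O ⊕ L`. -/
def presheaf : TopCat.Presheaf CommRingCat.{u} X.carrier where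
  obj U := CommRingCat.of (Dbl m hL U.unop)
  map i := CommRingCat.ofHom (resD m hL i.unop.le)
  map_id U := by
    refine CommRingCat.hom_ext (RingHom.ext fun a => ?_)
    exact Dbl.ext (QC.resO_self _ _) (QC.res_self L _ _)
  map_comp i j := by
    refine CommRingCat.hom_ext (RingHom.ext fun a => ?_)
    exact Dbl.ext (resO_resO _ _ _).symm (res_res L _ _ _).symm

theorem isSheaf_presheaf : (presheaf m hL).IsSheaf := by
  refine (TopCat.Presheaf.isSheaf_iff_isSheafUniqueGluing (presheaf m hL)).mpr fun ι W sf hsf => ?_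
  obtain ⟨a, ha, hua⟩ := TopCat.Sheaf.existsUnique_gluing X.sheaf W
    (fun i => (show Dbl m hL (W i) from sf i).s) (fun i j => congrArg Dbl.s (hsf i j))
  obtain ⟨b, hb, hub⟩ := TopCat.Sheaf.existsUnique_gluing (QC.abSheaf L) W
    (fun i => (show Dbl m hL (W i) from sf i).l) (fun i j => congrArg Dbl.l (hsf i j))
  exact ⟨⟨a, b⟩, fun i => Dbl.ext (ha i) (hb i), fun c hc => Dbl.ext
    (hua _ fun i => congrArg Dbl.s (hc i)) (hub _ fun i => congrArg Dbl.l (hc i))⟩

/-- The structure map. -/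
def str : X.presheaf ⟶ presheaf m hL where
  app U := CommRingCat.ofHom
    { toFun := fun s => (⟨s, 0⟩ : Dbl m hL U.unop)
      map_one' := rfl
      map_zero' := rfl
      map_add' := fun a b => Dbl.ext rfl (add_zero _).symm
      map_mul' := fun a b => Dbl.ext (by simp [pair_zero]) (by simp) }
  naturality U V i := by
    ext s
    exact Dbl.ext rfl (map_zero _).symm

theorem mk_pow (s : Γ(X, U)) (n : ℕ) : (⟨s, 0⟩ : Dbl m hL U) ^ n = ⟨s ^ n, 0⟩ := by
  induction n with
  | zero => rw [pow_zero, pow_zero]; rfl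
  | succ n ih => rw [pow_succ, pow_succ, ih]; exact Dbl.ext (by simp [pair_zero]) (by simp)

theorem mul_mk (a : Dbl m hL U) (s : Γ(X, U)) : a * ⟨s, 0⟩ = ⟨s * a.s, s • a.l⟩ :=
  Dbl.ext (by simp [pair_zero, _root_.mul_comm]) (by simp)

theorem isQC : RelSpec.IsQC (presheaf m hL) (str m hL) := by
  intro U hU r
  have hq : Coh.IsQCoh L := isQCoh_of_isInvertible hL
  have hLL := Groth.Agent.QC.isLoc_of_isQCoh hU (hM := hq)
  have hle := X.basicOpen_le r
  haveI := hU.isLocalization_basicOpen r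
  let φ := resD m hL hle
  letI : Algebra (Dbl m hL U) (Dbl m hL (X.basicOpen r)) := φ.toAlgebra
  change IsLocalization (Submonoid.powers (⟨r, 0⟩ : Dbl m hL U)) (Dbl m hL (X.basicOpen r))
  have hφ : ∀ n : ℕ, φ ((⟨r, 0⟩ : Dbl m hL U) ^ n) = ⟨resO X hle r ^ n, 0⟩ := fun n => by
    rw [mk_pow]
    exact Dbl.ext (map_pow _ _ _) (map_zero _)
  have halg : ∀ c, algebraMap Γ(X, U) Γ(X, X.basicOpen r) c = resO X hle c := fun _ => rfl
  have hu : IsUnit (resO X hle r) := by
    rw [← halg]; exact IsLocalization.Away.algebraMap_isUnit r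
  rw [isLocalization_iff]
  refine ⟨?_, ?_, ?_⟩
  · rintro ⟨_, n, rfl⟩
    change IsUnit (φ _)
    rw [hφ]
    let str' : Γ(X, X.basicOpen r) →+* Dbl m hL (X.basicOpen r) := ((str m hL).app (op (X.basicOpen r))).hom
    exact (hu.pow n).map str'
  · intro z
    obtain ⟨⟨a, ⟨_, n₁, rfl⟩⟩, ha⟩ := IsLocalization.surj (Submonoid.powers r) z.s
    obtain ⟨n₂, b, hb⟩ := hLL.exists_extend r z.l
    rw [halg, halg, map_pow] at ha
    refine ⟨(⟨r ^ n₂ * a, r ^ n₁ • b⟩, ⟨_, n₁ + n₂, rfl⟩), ?_⟩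
    change z * φ (⟨r, 0⟩ ^ (n₁ + n₂)) = φ ⟨r ^ n₂ * a, r ^ n₁ • b⟩
    rw [hφ, mul_mk]
    refine Dbl.ext ?_ ?_
    · change resO X hle r ^ (n₁ + n₂) * z.s = resO X hle (r ^ n₂ * a)
      rw [map_mul, map_pow, ← ha]; ring
    · change resO X hle r ^ (n₁ + n₂) • z.l = res L hle (r ^ n₁ • b)
      rw [res_smul, hb, map_pow, smul_smul, pow_add]
  · intro x y hxy
    obtain ⟨n₁, h1⟩ := IsLocalization.Away.exists_of_eq (x := r) (S := Γ(X, X.basicOpen r))
      (show algebraMap Γ(X, U) _ x.s = algebraMap Γ(X, U) _ y.s from congrArg Dbl.s hxy)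
    obtain ⟨n₂, h2⟩ := hLL.exists_pow_smul_eq_zero r (x.l - y.l)
      (by rw [map_sub]; exact sub_eq_zero.mpr (congrArg Dbl.l hxy))
    refine ⟨⟨_, n₁ + n₂, rfl⟩, ?_⟩
    change (⟨r, 0⟩ : Dbl m hL U) ^ (n₁ + n₂) * x = ⟨r, 0⟩ ^ (n₁ + n₂) * y
    rw [mk_pow, _root_.mul_comm _ x, _root_.mul_comm _ y, mul_mk, mul_mk]
    refine Dbl.ext ?_ ?_
    · change r ^ (n₁ + n₂) * x.s = r ^ (n₁ + n₂) * y.s
      rw [pow_add, _root_.mul_comm (r ^ n₁), mul_assoc, mul_assoc, h1]
    · change r ^ (n₁ + n₂) • x.l = r ^ (n₁ + n₂) • y.l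
      rw [← sub_eq_zero, ← smul_sub, pow_add, mul_smul, h2, smul_zero]

/-- `O_X ⊕ L` as a quasi-coherent algebra. -/
def alg : RelSpec.QCAlg X where
  presheaf := presheaf m hL
  isSheaf := isSheaf_presheaf m hL
  str := str m hL
  isQC := isQC m hL

end Groth.Agent.DblAlgLib
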