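import Groth.Prelude.Def_FinCov
import Groth.Agent.DblAlgLib.Basic
import Groth.Agent.FinCovTr.Trace
import Groth.Agent.W7Strat.Frame

/-!
# Frames and traces of rank-two algebras `O ⊕ L`
-/

set_option autoImplicit false
set_option backward.isDefEq.respectTransparency false
set_option backward.isDefEq.respectTransparency.types false
set_option linter.style.haveILetI false
set_option maxHeartbeats 1000000

universe u

open CategoryTheory CategoryTheory.Limits AlgebraicGeometry TopologicalSpace Opposite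
open Groth.Agent.QC (res resO res_res res_smul resO_resO app_res res_self)
open Groth.Agent.WeakAssLib (mgerm mgerm_smul mgerm_res)
open Groth.Agent.FinCovTr (Sec resA toRing secAlg)
open TMul (IsFrame IsGen)

attribute [local instance] Groth.Agent.FinCovTr.secAlg

noncomputable section

namespace Groth.Agent.DblAlgLib

variable {X : Scheme.{u}}

/-- Bijectivity on all smaller opens gives a frame. -/
theorem isFrame_of_bijective {N : X.Modules} {n : ℕ} {U : X.Opens} (e : Fin n → Γ(N, U))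
    (h : ∀ (V : X.Opens) (hV : V ≤ U),
      Function.Bijective fun c : Fin n → Γ(X, V) => ∑ i, c i • res N hV (e i)) : IsFrame e := by
  classical
  intro x hx
  have lift : ∀ σ : Fin n → X.presheaf.stalk x, ∃ (V : X.Opens) (hV : V ≤ U) (hxV : x ∈ V) (c : Fin n → Γ(X, V)),
      ∀ i, X.presheaf.germ V x hxV (c i) = σ i := fun σ => by
    choose W hxW c hc using fun i => X.presheaf.exists_germ_eq (x := x) (σ i)
    let V : X.Opens := Finset.univ.inf W ⊓ U
    have hxV : x ∈ V := ⟨by
      have : x ∈ ((Finset.univ.inf W : X.Opens) : Set X) := by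
        rw [Opens.coe_finset_inf, Finset.inf_set_eq_iInter, Set.mem_iInter₂]
        exact fun i _ => hxW i
      exact this, hx⟩
    refine ⟨V, inf_le_right, hxV, fun i =>
      resO X (show V ≤ W i from inf_le_left.trans (Finset.inf_le (Finset.mem_univ i))) (c i), fun i => ?_⟩
    rw [← hc i]
    exact TopCat.Presheaf.germ_res_apply X.presheaf _ x hxV (c i)
  have hgerm : ∀ (V : X.Opens) (hV : V ≤ U) (hxV : x ∈ V) (c : Fin n → Γ(X, V)),
      mgerm N hxV (∑ i, c i • res N hV (e i)) =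
        ∑ i, X.presheaf.germ V x hxV (c i) • mgerm N hx (e i) := fun V hV hxV c => TMul.germ_comb hV hxV c
  refine ⟨fun σ σ' he => ?_, fun m => ?_⟩
  · obtain ⟨V, hV, hxV, c, hc⟩ := lift (σ - σ')
    have h0 : mgerm N hxV (∑ i, c i • res N hV (e i)) = 0 := by
      rw [hgerm]
      simp only [hc, Pi.sub_apply, sub_smul, Finset.sum_sub_distrib]
      exact sub_eq_zero.mpr he
    obtain ⟨W, hxW, i₁, i₂, heq⟩ := TopCat.Presheaf.germ_eq N.presheaf x hxV hxV _ _
      (h0.trans (map_zero (mgerm N hxV)).symm)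
    have heq' : ∑ i, resO X i₁.le (c i) • res N (i₁.le.trans hV) (e i) = 0 := by
      have := heq
      change res N i₁.le _ = res N _ 0 at this
      rw [map_zero, map_sum] at this
      rw [← this]
      exact Finset.sum_congr rfl fun i _ => by rw [res_smul, res_res]
    have hz : (fun i => resO X i₁.le (c i)) = 0 := (h W (i₁.le.trans hV)).1 (by simpa using heq')
    refine sub_eq_zero.mp (funext fun i => ?_)
    rw [← hc i, Pi.zero_apply]
    rw [← TopCat.Presheaf.germ_res_apply X.presheaf i₁ x hxW (c i)]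
    exact (congrArg (X.presheaf.germ W x hxW) (congrFun hz i)).trans (map_zero _)
  · obtain ⟨W, hxW, s, hs⟩ := TopCat.Presheaf.exists_germ_eq (x := x) N.presheaf m
    obtain ⟨c, hc⟩ := (h (W ⊓ U) inf_le_right).2 (res N inf_le_left s)
    refine ⟨fun i => X.presheaf.germ (W ⊓ U) x ⟨hxW, hx⟩ (c i), ?_⟩
    have := hgerm (W ⊓ U) inf_le_right ⟨hxW, hx⟩ c
    rw [show (∑ i, c i • res N inf_le_right (e i)) = res N inf_le_left s from hc] at this
    exact this.symm.trans ((mgerm_res N _ _ s).trans hs)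

variable {L : X.Modules} {m : CohB1.tensorMod L L ⟶ Coh.structureModule X} {A : RelSpec.QCAlg X}
  {j : L ⟶ A.toModule}

/-- The frame `(1, j ℓ)`. -/
def dblFrame (j : L ⟶ A.toModule) {U : X.Opens} (ℓ : Γ(L, U)) : Fin 2 → Γ(A.toModule, U) :=
  ![(FinCov.strMod A).app U (1 : Γ(X, U)), j.app U ℓ]

theorem comb_dblFrame {U : X.Opens} (ℓ : Γ(L, U)) {V : X.Opens} (hV : V ≤ U) (c : Fin 2 → Γ(X, V)) :
    ∑ i, c i • res A.toModule hV (dblFrame j ℓ i) =
      (FinCov.strMod A).app V (c 0) + j.app V (c 1 • res L hV ℓ) := by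
  rw [Fin.sum_univ_two]
  change c 0 • res A.toModule hV ((FinCov.strMod A).app U (1 : Γ(X, U))) + c 1 • res A.toModule hV (j.app U ℓ) = _
  rw [app_res, app_res, ← Scheme.Modules.Hom.app_smul, ← Scheme.Modules.Hom.app_smul]
  congr 2
  change c 0 * resO X hV 1 = c 0
  rw [map_one, _root_.mul_one]

theorem isFrame_dblFrame (h : FinCov.IsDblAlg L m A j) {U : X.Opens} {ℓ : Γ(L, U)} (hℓ : IsGen ℓ) :
    IsFrame (dblFrame j ℓ) := by
  refine isFrame_of_bijective _ fun V hV => ?_
  have : (fun c : Fin 2 → Γ(X, V) => ∑ i, c i • res A.toModule hV (dblFrame j ℓ i)) =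
      (fun p : Γ(X, V) × Γ(L, V) => (FinCov.strMod A).app V p.1 + j.app V p.2) ∘
        (fun c => (c 0, c 1 • res L hV ℓ)) := funext fun c => comb_dblFrame ℓ hV c
  rw [this]
  refine (h.1 V).comp ⟨fun c c' hc => ?_, fun p => ?_⟩
  · have h1 := congrArg Prod.fst hc
    have h2 := (hℓ V hV).1 (congrArg Prod.snd hc)
    funext i
    fin_cases i
    · exact h1
    · exact h2
  · obtain ⟨c, hc⟩ := (hℓ V hV).2 p.2
    exact ⟨![p.1, c], Prod.ext rfl hc⟩

theorem isFinLocFreeOfRank_two (hL : PicF.IsInvertible L) (h : FinCov.IsDblAlg L m A j) :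
    FlatMod.IsFinLocFreeOfRank 2 A.toModule :=
  W7Strat.isFinLocFreeOfRank_of_frames fun x => by
    obtain ⟨U, ℓ, hxU, hℓ⟩ := TMul.exists_isGen hL x
    exact ⟨U, dblFrame j ℓ, hxU, isFrame_dblFrame h hℓ⟩

/-- Sections of `j` have trace zero. -/
theorem trace_j_eq_zero (hL : PicF.IsInvertible L) (h : FinCov.IsDblAlg L m A j)
    {τ : A.toModule ⟶ Coh.structureModule X} (hτ : FinCov.IsTrace A τ) (V : X.Opens) (l : Γ(L, V)) :
    τ.app V (j.app V l) = (0 : Γ(X, V)) := by
  refine FinCovTr.fn_eq fun x hx => ?_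
  obtain ⟨U, ℓ, hxU, hℓ⟩ := TMul.exists_isGen hL x
  obtain ⟨D, hD, hxD, hDle⟩ := exists_isAffineOpen_mem_and_subset (show x ∈ V ⊓ U from ⟨hx, hxU⟩)
  have hDV : D ≤ V := fun z hz => (hDle hz).1
  have hDU : D ≤ U := fun z hz => (hDle hz).2
  refine ⟨D, hDV, hxD, ?_⟩
  rw [map_zero]
  have e : resO X hDV (τ.app V (j.app V l)) = τ.app D (j.app D (res L hDV l)) :=
    (app_res τ hDV _).trans (congrArg (τ.app D) (app_res j hDV l))
  rw [e]
  generalize res L hDV l = l'
  have he := isFrame_dblFrame h hℓ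
  obtain ⟨hf, hfi⟩ := FinCovTr.finite_free he hDU
  refine (hτ D hD hf hfi _).trans ?_
  obtain ⟨c, rfl⟩ := (hℓ D hDU).2 l'
  let b := FinCovTr.basisOf he hDU
  let a : Sec A D := toRing A D (j.app D (c • res L hDU ℓ))
  change Algebra.trace Γ(X, D) (Sec A D) a = 0
  rw [Algebra.trace_eq_matrix_trace b, Matrix.trace_fin_two, Algebra.leftMulMatrix_eq_repr_mul,
    Algebra.leftMulMatrix_eq_repr_mul]
  have hb0 : b 0 = 1 := by
    rw [FinCovTr.basisOf_apply]
    change resA A hDU ((A.str.app (op U)).hom 1) = 1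
    rw [map_one, map_one]
  have hb1 : b 1 = toRing A D (j.app D (res L hDU ℓ)) := by
    rw [FinCovTr.basisOf_apply]
    exact app_res j hDU ℓ
  have r0 : b.repr (a * b 0) 0 = 0 := by
    refine (FinCovTr.repr_of_sum he hDU _ ![0, c] ?_ 0).trans rfl
    rw [hb0, _root_.mul_one]
    refine (comb_dblFrame (j := j) ℓ hDU ![0, c]).trans ?_
    change (FinCov.strMod A).app D (0 : Γ(X, D)) + j.app D (c • res L hDU ℓ) = _
    rw [map_zero, zero_add]
    rfl
  have r1 : b.repr (a * b 1) 1 = 0 := by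
    let p : Γ(X, D) := m.app D (TMul.tm (c • res L hDU ℓ) (res L hDU ℓ))
    refine (FinCovTr.repr_of_sum he hDU _ ![p, 0] ?_ 1).trans rfl
    refine (comb_dblFrame (j := j) ℓ hDU ![p, 0]).trans ?_
    change (FinCov.strMod A).app D p + j.app D ((0 : Γ(X, D)) • res L hDU ℓ) = _
    rw [zero_smul, map_zero, add_zero, hb1]
    exact (h.2 D _ _).symm
  rw [r0, r1, add_zero]

end Groth.Agent.DblAlgLib
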